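/-
Block subgroups `SL_{n-1}(F) ≤ SL_n(F)`: block-diagonal matrices with respect to one coordinate `l`,
the isomorphism with `SL` of the complementary index set, quasisimplicity; commutation
with transvections and with the diagonal involution.
-/
import Mathlib
import Cfsg.Prelude.Def_Local
import Cfsg.Prelude.Def_CaseTheorems
import Cfsg.Agent.Lib.Classical.Transvections
import Cfsg.Agent.Lib.Components.Basic

set_option autoImplicit false
set_option linter.unusedSectionVars false
set_option linter.style.haveILetI false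

namespace Cfsg.Agent.Lib.SLBlock.Basic

open Matrix Subgroup Cfsg Cfsg.Agent.Lib.Components.Basic

section Transv

variable {F : Type*} [Field F] {n : ℕ}

/-- Commutation with a transvection, in entries. -/
theorem comm_entries (p q : Fin n) (g : Matrix (Fin n) (Fin n) F)
    (h : transvection p q (1 : F) * g = g * transvection p q (1 : F)) :
    (∀ b, b ≠ q → g q b = 0) ∧ (∀ a, a ≠ p → g a p = 0) ∧ g q q = g p p := by
  refine ⟨fun b hb => ?_, fun a ha => ?_, ?_⟩
  · have h1 := congrFun (congrFun h p) b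
    rw [transvection_mul_apply_same, mul_transvection_apply_of_ne _ _ _ _ hb] at h1
    simpa using h1
  · have h1 := congrFun (congrFun h a) q
    rw [transvection_mul_apply_of_ne _ _ _ _ ha, mul_transvection_apply_same] at h1
    simpa using h1.symm
  · have h1 := congrFun (congrFun h p) q
    rw [transvection_mul_apply_same, mul_transvection_apply_same] at h1
    simpa using h1

theorem tr_apply (p q a b : Fin n) : transvection p q (1 : F) a b =
    (1 : Matrix (Fin n) (Fin n) F) a b + if p = a ∧ q = b then 1 else 0 := by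
  simp [transvection, Matrix.single_apply]

end Transv

section Block

variable {F : Type*} [Field F] {n : ℕ} (l : Fin n)

/-- Block-diagonal matrices for the decomposition `F^n = ⟨e_i, i ≠ l⟩ ⊕ ⟨e_l⟩`. -/
def IsBlk (g : Matrix (Fin n) (Fin n) F) : Prop := ∀ i, i ≠ l → g i l = 0 ∧ g l i = 0

variable {l}

theorem isBlk_one : IsBlk l (1 : Matrix (Fin n) (Fin n) F) := fun _ hi =>
  ⟨Matrix.one_apply_ne hi, Matrix.one_apply_ne hi.symm⟩

theorem IsBlk.mul {g h : Matrix (Fin n) (Fin n) F} (hg : IsBlk l g) (hh : IsBlk l h) :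
    IsBlk l (g * h) := by
  intro i hi
  constructor
  · rw [Matrix.mul_apply]
    refine Finset.sum_eq_zero fun c _ => ?_
    by_cases hc : c = l
    · rw [hc, (hg i hi).1, zero_mul]
    · rw [(hh c hc).1, mul_zero]
  · rw [Matrix.mul_apply]
    refine Finset.sum_eq_zero fun c _ => ?_
    by_cases hc : c = l
    · rw [hc, (hh i hi).2, mul_zero]
    · rw [(hg c hc).2, zero_mul]

theorem IsBlk.mul_ll {g h : Matrix (Fin n) (Fin n) F} (hg : IsBlk l g) :
    (g * h) l l = g l l * h l l := by
  rw [Matrix.mul_apply]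
  refine Finset.sum_eq_single l (fun c _ hc => ?_) (fun h => absurd (Finset.mem_univ _) h)
  rw [(hg c hc).2, zero_mul]

/-- The inverse of a block-diagonal matrix is block diagonal. -/
theorem IsBlk.inv {g h : Matrix (Fin n) (Fin n) F} (hg : IsBlk l g) (hgh : g * h = 1) (hhg : h * g = 1) :
    IsBlk l h := by
  have h1 : g l l ≠ 0 := by
    intro h0
    have : (g * h) l l = 0 := by rw [IsBlk.mul_ll hg, h0, zero_mul]
    rw [hgh] at this
    simp at this
  intro i hi
  constructor
  · have h2 : (h * g) i l = 0 := by rw [hhg, Matrix.one_apply_ne hi]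
    rw [Matrix.mul_apply, Finset.sum_eq_single l] at h2
    · exact (mul_eq_zero.mp h2).resolve_right h1
    · intro c _ hc
      rw [(hg c hc).1, mul_zero]
    · exact fun h => absurd (Finset.mem_univ _) h
  · have h2 : (g * h) l i = 0 := by rw [hgh, Matrix.one_apply_ne hi.symm]
    rw [Matrix.mul_apply, Finset.sum_eq_single l] at h2
    · exact (mul_eq_zero.mp h2).resolve_left h1
    · intro c _ hc
      rw [(hg c hc).2, zero_mul]
    · exact fun h => absurd (Finset.mem_univ _) h

variable (l)

/-- The complementary index set. -/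
abbrev Idx := {i : Fin n // i ≠ l}

/-- The big block of a matrix. -/
def blockOf (g : Matrix (Fin n) (Fin n) F) : Matrix (Idx l) (Idx l) F :=
  Matrix.of fun a b => g a b

/-- Extension of a matrix on the complement by `1` at `l`. -/
def ext (A : Matrix (Idx l) (Idx l) F) : Matrix (Fin n) (Fin n) F :=
  fun a b => if h : a ≠ l ∧ b ≠ l then A ⟨a, h.1⟩ ⟨b, h.2⟩ else if a = b then 1 else 0

variable {l}

theorem det_of_isB {g : Matrix (Fin n) (Fin n) F} (hg : IsBlk l g) :
    g.det = (blockOf l g).det * g l l := by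
  rw [Matrix.twoBlockTriangular_det g (fun i => i ≠ l) (fun i hi j hj => by
    simp only [ne_eq, not_not] at hi
    rw [hi]
    exact (hg j hj).2)]
  congr 1
  haveI : Unique {i : Fin n // ¬ i ≠ l} :=
    ⟨⟨⟨l, by simp⟩⟩, fun a => Subtype.ext (by simpa using a.2)⟩
  rw [Matrix.det_unique]
  have hd : (((default : {i : Fin n // ¬ i ≠ l})) : Fin n) = l := by
    simpa using (default : {i : Fin n // ¬ i ≠ l}).2
  show g ((default : {i : Fin n // ¬ i ≠ l}) : Fin n) ((default : {i : Fin n // ¬ i ≠ l}) : Fin n) = g l l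
  rw [hd]

theorem isBlk_ext (A : Matrix (Idx l) (Idx l) F) : IsBlk l (ext l A) := by
  intro i hi
  constructor
  · simp [ext, hi]
  · simp [ext, hi.symm]

theorem ext_ll (A : Matrix (Idx l) (Idx l) F) : ext l A l l = 1 := by
  simp [ext]

theorem blockOf_ext (A : Matrix (Idx l) (Idx l) F) : blockOf l (ext l A) = A := by
  ext a b
  simp [blockOf, ext, a.2, b.2]

theorem ext_blockOf {g : Matrix (Fin n) (Fin n) F} (hg : IsBlk l g) (hll : g l l = 1) :
    ext l (blockOf l g) = g := by
  ext a b
  by_cases ha : a = l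
  · by_cases hb : b = l
    · rw [ha, hb, ext_ll, hll]
    · rw [ha, (hg b hb).2]
      simp [ext, Ne.symm hb]
  · by_cases hb : b = l
    · rw [hb, (hg a ha).1]
      simp [ext, ha]
    · simp [ext, ha, hb, blockOf]

theorem blockOf_mul {g h : Matrix (Fin n) (Fin n) F} (hg : IsBlk l g) :
    blockOf l (g * h) = blockOf l g * blockOf l h := by
  ext a b
  show (g * h) a b = _
  rw [Matrix.mul_apply, Matrix.mul_apply, Fintype.sum_eq_add_sum_subtype_ne _ l]
  rw [(hg a a.2).1, zero_mul, zero_add]
  rfl

theorem blockOf_one : blockOf l (1 : Matrix (Fin n) (Fin n) F) = 1 := by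
  ext a b
  show (1 : Matrix (Fin n) (Fin n) F) a b = _
  by_cases h : a = b
  · rw [h]; simp
  · rw [Matrix.one_apply_ne h, Matrix.one_apply_ne (fun e => h (Subtype.ext e))]

theorem det_ext (A : Matrix (Idx l) (Idx l) F) : (ext l A).det = A.det := by
  rw [det_of_isB (isBlk_ext A), blockOf_ext, ext_ll, mul_one]

variable (l)

/-- The block subgroup `SL_{n-1}(F)` of `SL_n(F)`. -/
def blockSL : Subgroup (SpecialLinearGroup (Fin n) F) where
  carrier := {g | IsBlk l (g : Matrix (Fin n) (Fin n) F) ∧ (g : Matrix (Fin n) (Fin n) F) l l = 1}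
  one_mem' := ⟨isBlk_one, by simp⟩
  mul_mem' := by
    rintro g h ⟨hg, hg1⟩ ⟨hh, hh1⟩
    refine ⟨hg.mul hh, ?_⟩
    show ((g : Matrix (Fin n) (Fin n) F) * (h : Matrix (Fin n) (Fin n) F)) l l = 1
    rw [IsBlk.mul_ll hg, hg1, hh1, one_mul]
  inv_mem' := by
    rintro g ⟨hg, hg1⟩
    have h1 : (g : Matrix (Fin n) (Fin n) F) * ((g⁻¹ : SpecialLinearGroup (Fin n) F) : Matrix (Fin n) (Fin n) F) = 1 :=
      congrArg (fun x : SpecialLinearGroup (Fin n) F => (x : Matrix (Fin n) (Fin n) F)) (mul_inv_cancel g)
    have h2 : ((g⁻¹ : SpecialLinearGroup (Fin n) F) : Matrix (Fin n) (Fin n) F) * (g : Matrix (Fin n) (Fin n) F) = 1 :=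
      congrArg (fun x : SpecialLinearGroup (Fin n) F => (x : Matrix (Fin n) (Fin n) F)) (inv_mul_cancel g)
    refine ⟨hg.inv h1 h2, ?_⟩
    have h3 := congrFun (congrFun h1 l) l
    rw [IsBlk.mul_ll hg, hg1, one_mul] at h3
    simpa using h3

variable {l}

theorem mem_blockSL {g : SpecialLinearGroup (Fin n) F} :
    g ∈ blockSL l ↔ IsBlk l (g : Matrix (Fin n) (Fin n) F) ∧ (g : Matrix (Fin n) (Fin n) F) l l = 1 :=
  Iff.rfl

variable (l)

/-- The block subgroup is isomorphic to `SL` of the complement. -/
noncomputable def blockEquiv : ↥(blockSL (F := F) l) ≃* SpecialLinearGroup (Idx l) F where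
  toFun g := ⟨blockOf l (g : SpecialLinearGroup (Fin n) F), by
    have := det_of_isB g.2.1
    rw [g.2.2, mul_one, (g : SpecialLinearGroup (Fin n) F).2] at this
    exact this.symm⟩
  invFun A := ⟨⟨ext l (A : Matrix (Idx l) (Idx l) F), by rw [det_ext, A.2]⟩, isBlk_ext _, ext_ll _⟩
  left_inv g := by
    apply Subtype.ext
    apply Subtype.ext
    exact ext_blockOf g.2.1 g.2.2
  right_inv A := by
    apply Subtype.ext
    exact blockOf_ext _
  map_mul' g h := by
    apply Subtype.ext
    exact blockOf_mul g.2.1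

variable {l}

/-- `SL` of at least three indices is quasisimple. -/
theorem sl_isQuasisimple {ι : Type*} [Fintype ι] [DecidableEq ι] (h3 : 3 ≤ Fintype.card ι) :
    IsQuasisimple (SpecialLinearGroup ι F) :=
  ⟨⟨Cfsg.Agent.Lib.Classical.Transvections.commutator_sl_eq_top h3⟩,
    Cfsg.Agent.Lib.Classical.Transvections.psl_isSimpleGroup h3⟩

theorem card_idx (l : Fin n) : Fintype.card (Idx l) = n - 1 := by
  rw [Fintype.card_subtype_compl]
  simp

theorem blockSL_isQuasisimple (h : 4 ≤ n) : IsQuasisimple ↥(blockSL (F := F) l) := by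
  refine quasisimple_of_mulEquiv (blockEquiv l).symm (sl_isQuasisimple ?_)
  rw [card_idx]
  omega

/-- The diagonal involution. -/
def tDiag (l : Fin n) : Matrix (Fin n) (Fin n) F :=
  Matrix.diagonal (fun i => if i = l then 1 else -1)

/-- Commuting with the involution is being block diagonal. -/
theorem comm_tDiag_iff (h2 : (2 : F) ≠ 0) (g : Matrix (Fin n) (Fin n) F) :
    g * tDiag l = tDiag l * g ↔ IsBlk l g := by
  have hneg : ∀ x : F, x = -x → x = 0 := by
    intro x hx
    have : (2 : F) * x = 0 := by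
      rw [two_mul]; nth_rw 1 [hx]; ring
    exact (mul_eq_zero.mp this).resolve_left h2
  constructor
  · intro h i hi
    have h1 := congrFun (congrFun h i) l
    have h3 := congrFun (congrFun h l) i
    rw [tDiag, Matrix.mul_diagonal, Matrix.diagonal_mul] at h1 h3
    simp only [hi, if_true, if_false, mul_one, neg_mul, one_mul] at h1 h3
    exact ⟨hneg _ h1, hneg _ (by simpa using h3.symm)⟩
  · intro h
    ext a b
    rw [tDiag, Matrix.mul_diagonal, Matrix.diagonal_mul]
    by_cases ha : a = l
    · by_cases hb : b = l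
      · simp [ha, hb]
      · rw [ha, (h b hb).2]; simp
    · by_cases hb : b = l
      · rw [hb, (h a ha).1]; simp
      · simp [ha, hb]

theorem isBlk_tDiag : IsBlk l (tDiag (F := F) l) := by
  intro i hi
  exact ⟨Matrix.diagonal_apply_ne _ hi, Matrix.diagonal_apply_ne _ hi.symm⟩

theorem tDiag_ll : tDiag (F := F) l l l = 1 := by
  simp [tDiag]

theorem tDiag_mul_self : tDiag (F := F) l * tDiag l = 1 := by
  rw [tDiag, Matrix.diagonal_mul_diagonal, ← Matrix.diagonal_one]
  congr 1
  ext i
  by_cases h : i = l <;> simp [h]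

end Block

theorem two_ne_zero_of_odd {F : Type*} [Field F] [Fintype F] (hF : Odd (Fintype.card F)) :
    (2 : F) ≠ 0 := by
  have h : ringChar F ≠ 2 := by
    intro h2
    have := FiniteField.even_card_iff_char_two.mp h2
    rw [Nat.odd_iff] at hF
    omega
  exact Ring.two_ne_zero h

end Cfsg.Agent.Lib.SLBlock.Basic
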